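import Cfsg.Agent.ExtFieldMax.Sp.Form
import Cfsg.Agent.ExtFieldMax.Intersect
import Mathlib.RingTheory.Adjoin.Basic
import Mathlib.LinearAlgebra.FreeModule.PID

/-!
An element stabilising a line over the field without being linear on it (helper98).
-/

set_option autoImplicit false

namespace Cfsg.Agent.ExtFieldMax.Sp

open Matrix Cfsg.Agent.MaxSub

variable {ι : Type} [Fintype ι] [DecidableEq ι] {F : Type*} [Field F]
variable {f : (ι → F) → (ι → F) → F} {K : Subalgebra F (Matrix ι ι F)} {r : ℕ}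
variable (hK : Geo.IsFieldSubalgebra r K) (hr : r.Prime)

include hK hr in
theorem scalar_of_closed {v : ι → F} (hv : v ≠ 0) {L' : Submodule F (ι → F)}
    (hr' : Module.finrank F L' = r) (hne : L' ≠ kline K v) {c : K} (hc : c ≠ 0)
    (hcL : ev K v c ∈ L') {d : K} (hd : ∀ e, ev K v e ∈ L' → ev K v (d * e) ∈ L') :
    ∃ a : F, d = algebraMap F K a := by
  letI : Field K := (isField_of hK hr.one_lt.le).toField
  haveI : IsSimpleOrder (Subalgebra F K) :=
    Subalgebra.isSimpleOrder_of_finrank_prime F K (hK.finrank_eq.symm ▸ hr)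
  let C : Subalgebra F K :=
    { carrier := {d | ∀ e, ev K v e ∈ L' → ev K v (d * e) ∈ L'}
      mul_mem' := fun {a b} ha hb e he => by rw [mul_assoc]; exact ha _ (hb _ he)
      one_mem' := fun e he => by rwa [one_mul]
      add_mem' := fun {a b} ha hb e he => by
        rw [add_mul, map_add]; exact add_mem (ha _ he) (hb _ he)
      zero_mem' := fun e he => by rw [zero_mul, map_zero]; exact zero_mem _
      algebraMap_mem' := fun a e he => by
        rw [← Algebra.smul_def, map_smul]; exact L'.smul_mem a he }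
  rcases IsSimpleOrder.eq_bot_or_eq_top C with hb | ht
  · have hdC : d ∈ C := hd
    rw [hb, Algebra.mem_bot] at hdC
    obtain ⟨a, ha⟩ := hdC
    exact ⟨a, ha.symm⟩
  · refine absurd (Submodule.eq_of_le_of_finrank_eq (show kline K v ≤ L' from ?_)
      (by rw [hr', finrank_kline hK hv])).symm hne
    rintro _ ⟨μ, rfl⟩
    have := (ht ▸ Algebra.mem_top : μ / c ∈ C) c hcL
    rwa [div_mul_cancel₀ _ hc] at this

include hK hr in
theorem decomp_of_closed {v : ι → F} (hv : v ≠ 0) {L' : Submodule F (ι → F)}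
    (hr' : Module.finrank F L' = r) (hne : L' ≠ kline K v) {c : K} (hc : c ≠ 0)
    (hcL : ev K v c ∈ L') {l : ι → F} (hl : l ∈ L') (hlL : l ∉ kline K v)
    (hcl : ∀ ψ : (ι → F) →ₗ[F] K, IsKLin ψ → ψ v = 0 → ev K v (ψ l) ∈ L' →
      ∀ x ∈ L', ev K v (ψ x) ∈ L') :
    ∀ x ∈ L', ∃ a : F, x - a • l ∈ kline K v := by
  letI : Field K := (isField_of hK hr.one_lt.le).toField
  have claimB : ∀ φ : (ι → F) →ₗ[F] K, IsKLin φ → φ v = 0 → φ l = 1 →
      ∀ x ∈ L', ∃ a : F, φ x = algebraMap F K a := fun φ hφ hφv hφl x hx =>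
    scalar_of_closed hK hr hv hr' hne hc hcL fun e he => by
      rw [mul_comm]
      refine hcl (LinearMap.mulLeft F e ∘ₗ φ) (isKLin_smul mul_comm hφ e) ?_ ?_ x hx
      · show e * φ v = 0
        rw [hφv, mul_zero]
      · show ev K v (e * φ l) ∈ L'
        rw [hφl, mul_one]
        exact he
  intro x hx
  obtain ⟨φ, hφ, hφL, hφl⟩ := exists_klin hK hr.one_lt.le (stable_kline v) hlL
  have hφv : φ v = 0 := hφL v (self_mem_kline v)
  obtain ⟨a, ha⟩ := claimB φ hφ hφv hφl x hx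
  refine ⟨a, ?_⟩
  have hφx' : φ (x - a • l) = 0 := by
    rw [map_sub, map_smul, hφl, ha, Algebra.smul_def, mul_one, sub_self]
  by_contra hout
  by_cases hsup : x - a • l ∈ kline K v ⊔ kline K l
  · obtain ⟨y, hy, z, ⟨b, rfl⟩, he⟩ := Submodule.mem_sup.mp hsup
    have hb : b = 0 := by
      rw [← he, map_add, hφL y hy, zero_add, phi_ev hK hφ, hφl, mul_one] at hφx'
      exact hφx'
    rw [hb, map_zero, add_zero] at he
    exact hout (he ▸ hy)
  · obtain ⟨ψ, hψ, hψU, hψx⟩ := exists_klin hK hr.one_lt.le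
      (stable_sup (stable_kline v) (stable_kline l)) hsup
    obtain ⟨k, hk⟩ : ∃ k : K, k ∉ Set.range (algebraMap F K) := by
      by_contra hc'
      push Not at hc'
      have h1 : Module.finrank F K ≤ 1 := finrank_le_one 1 fun k => by
        obtain ⟨b, hb⟩ := hc' k
        exact ⟨b, by rw [Algebra.smul_def, mul_one, hb]⟩
      rw [hK.finrank_eq] at h1
      have := hr.two_le
      omega
    obtain ⟨a', ha'⟩ := claimB (φ + LinearMap.mulLeft F k ∘ₗ ψ)
      (fun b y => by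
        show φ _ + k * ψ _ = b * (φ y + k * ψ y)
        rw [hφ, hψ]
        ring)
      (by
        show φ v + k * ψ v = 0
        rw [hφv, hψU v (Submodule.mem_sup_left (self_mem_kline v)), mul_zero, add_zero])
      (by
        show φ l + k * ψ l = 1
        rw [hφl, hψU l (Submodule.mem_sup_right (self_mem_kline l)), mul_zero, add_zero])
      (x - a • l) (sub_mem hx (L'.smul_mem a hl))
    refine hk ⟨a', ha'.symm.trans ?_⟩
    show φ _ + k * ψ _ = k
    rw [hφx', hψx, zero_add, mul_one]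

variable (hcard : r < Fintype.card ι) (hf : Geo.IsSymplecticForm f)
variable (hsa : Geo.IsSelfAdjointFor f K) (halt : ∀ k ∈ K, ∀ v, f (k *ᵥ v) v = 0)
variable (G : KForm f K) {H : Subgroup (GL ι F)} (hT : HasTransvections G H)

include hK hr hf hsa halt hT in
/-- An element of `H` stabilising the line of `v`, adding a rank one map on it, with a large fixed
space. -/
theorem exists_stabilizer {v : ι → F} (hv : v ≠ 0)
    (hn : ∃ g ∈ H, ∃ (k : K) (x : ι → F),
      (g : Matrix ι ι F) *ᵥ ((k : Matrix ι ι F) *ᵥ x) ∉ kline K ((g : Matrix ι ι F) *ᵥ x)) :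
    ∃ g ∈ H, ∃ (κ : K) (θ : K →ₗ[F] F), κ ≠ 0 ∧ θ ≠ 0 ∧ θ κ = 0 ∧
      (∀ μ, (g : Matrix ι ι F) *ᵥ ev K v μ = ev K v μ + θ μ • ev K v κ) ∧
      ∃ U : Submodule F (ι → F), Fintype.card ι ≤ Module.finrank F U + 2 * r ∧
        ∀ u ∈ U, (g : Matrix ι ι F) *ᵥ u = u := by
  classical
  letI : Field K := (isField_of hK hr.one_lt.le).toField
  set L := kline K v with hL
  let P : ℕ → Prop := fun a => ∃ h ∈ H, lineImg K h v ≠ L ∧
    Module.finrank F ↥(L ⊓ lineImg K h v) = a
  obtain ⟨h1, hh1, hne1, hmem1⟩ : ∃ h ∈ H, lineImg K h v ≠ L ∧ v ∈ lineImg K h v := by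
    obtain ⟨g, hg, k, x, hgx⟩ := hn
    have hx : x ≠ 0 := fun h => hgx (by simp [h])
    obtain ⟨c1, hc1, hc1v, hc1c⟩ := exists_move hf hK hsa halt G hT hr.one_lt.le hv hx
    obtain ⟨c2, hc2, hc2v, hc2c⟩ :=
      exists_move hf hK hsa halt G hT hr.one_lt.le (mulVec_ne_zero g hx) hv
    refine ⟨c2 * g * c1, mul_mem (mul_mem hc2 hg) hc1, fun he => hgx ?_,
      mem_lineImg.mpr ⟨1, ?_⟩⟩
    · have h2 : ((c2 * g * c1 : GL ι F) : Matrix ι ι F) *ᵥ ev K v k ∈ L :=
        he ▸ mem_lineImg.mpr ⟨k, rfl⟩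
      rw [Units.val_mul, Units.val_mul, ← mulVec_mulVec, ← mulVec_mulVec, ev_apply, hc1c,
        hc1v] at h2
      obtain ⟨l, hl⟩ := h2
      refine ⟨l, mulVec_injective c2 ?_⟩
      show (c2 : Matrix ι ι F) *ᵥ _ = (c2 : Matrix ι ι F) *ᵥ _
      rw [ev_apply, hc2c, hc2v]
      exact hl
    · rw [ev_one, Units.val_mul, Units.val_mul, ← mulVec_mulVec, ← mulVec_mulVec, hc1v, hc2v]
  have hle : ∀ g : GL ι F, Module.finrank F ↥(L ⊓ lineImg K g v) ≤ r := fun g =>
    (Submodule.finrank_mono inf_le_left).trans (finrank_kline hK hv).le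
  obtain ⟨h, hh, hne, ha⟩ := Nat.findGreatest_spec (P := P) (hle h1) ⟨h1, hh1, hne1, rfl⟩
  have hmax : ∀ g ∈ H, lineImg K g v ≠ L →
      Module.finrank F ↥(L ⊓ lineImg K g v) ≤ Module.finrank F ↥(L ⊓ lineImg K h v) :=
    fun g hg hgne => ha ▸ Nat.le_findGreatest (hle g) ⟨g, hg, hgne, rfl⟩
  set L' := lineImg K h v with hL'
  have hr' : Module.finrank F L' = r := finrank_lineImg hK h hv
  obtain ⟨l0, hl0, hl0L⟩ : ∃ l ∈ L', l ∉ L := by
    by_contra hc
    push Not at hc
    exact hne (Submodule.eq_of_le_of_finrank_eq hc (by rw [hr', hL, finrank_kline hK hv]))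
  obtain ⟨c, hc0, hcL⟩ : ∃ c : K, c ≠ 0 ∧ ev K v c ∈ L' := by
    have h1pos : 0 < Module.finrank F ↥(L ⊓ lineImg K h1 v) :=
      Module.finrank_pos_iff_exists_ne_zero.mpr
        ⟨⟨v, self_mem_kline v, hmem1⟩, fun h => hv (congrArg Subtype.val h)⟩
    obtain ⟨⟨y, hyL, hy'⟩, hy0⟩ :=
      Module.finrank_pos_iff_exists_ne_zero.mp (h1pos.trans_le (hmax h1 hh1 hne1))
    obtain ⟨c, rfl⟩ := hyL
    exact ⟨c, fun h => hy0 (Subtype.ext (by simp [h])), hy'⟩
  have hposL : 0 < Module.finrank F ↥(L ⊓ L') :=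
    Module.finrank_pos_iff_exists_ne_zero.mpr ⟨⟨ev K v c, ⟨c, rfl⟩, hcL⟩, fun h0 =>
      hc0 (ev_injective hK hv ((congrArg Subtype.val h0).trans (map_zero _).symm))⟩
  -- maximality
  have claimA : ∀ e ∈ H, (∀ x ∈ L, (e : Matrix ι ι F) *ᵥ x = x) → ∀ l ∈ L', l ∉ L →
      (e : Matrix ι ι F) *ᵥ l ∈ L' → ∀ x ∈ L', (e : Matrix ι ι F) *ᵥ x ∈ L' := by
    intro e he hefix l hl hlL hel
    have heL : lineImg K (h⁻¹ * e * h) v = L := by
      by_contra hne'
      have h2 := hmax _ (mul_mem (mul_mem (inv_mem hh) he) hh) hne'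
      set S := (L ⊓ L') ⊔ Submodule.span F {l}
      have hS : ∀ s ∈ S, s ∈ L' ∧ (e : Matrix ι ι F) *ᵥ s ∈ L' := by
        intro s hs
        obtain ⟨y, hy, z, hz, rfl⟩ := Submodule.mem_sup.mp hs
        obtain ⟨a, rfl⟩ := Submodule.mem_span_singleton.mp hz
        refine ⟨add_mem hy.2 (L'.smul_mem a hl), ?_⟩
        rw [mulVec_add, mulVec_smul, hefix y hy.1]
        exact add_mem hy.2 (L'.smul_mem a hel)
      have hlt : L ⊓ L' < S := lt_of_le_of_ne le_sup_left fun he' => hlL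
        ((he' ▸ Submodule.mem_sup_right (Submodule.mem_span_singleton_self l) : l ∈ L ⊓ L').1)
      have h3 : S.map ((h⁻¹ * e : GL ι F) : Matrix ι ι F).mulVecLin ≤
          L ⊓ lineImg K (h⁻¹ * e * h) v := by
        rintro _ ⟨s, hs, rfl⟩
        obtain ⟨μ, hμ⟩ := mem_lineImg.mp (hS s hs).1
        refine ⟨?_, mem_lineImg.mpr ⟨μ, ?_⟩⟩
        · show ((h⁻¹ * e : GL ι F) : Matrix ι ι F) *ᵥ s ∈ L
          rw [Units.val_mul, ← mulVec_mulVec]
          exact inv_mem_kline (hS s hs).2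
        · show _ = ((h⁻¹ * e : GL ι F) : Matrix ι ι F) *ᵥ s
          rw [← hμ, Units.val_mul (h⁻¹ * e) h, ← mulVec_mulVec]
      have h4 := Submodule.finrank_mono h3
      rw [finrank_map_gl] at h4
      have h5 := Submodule.finrank_lt_finrank_of_lt hlt
      omega
    intro x hx
    obtain ⟨μ, hμ⟩ := mem_lineImg.mp hx
    have h2 : ((h⁻¹ * e * h : GL ι F) : Matrix ι ι F) *ᵥ ev K v μ ∈ L :=
      heL ▸ mem_lineImg.mpr ⟨μ, rfl⟩
    rw [Units.val_mul, Units.val_mul, ← mulVec_mulVec, ← mulVec_mulVec, hμ] at h2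
    obtain ⟨ν, hν⟩ := h2
    exact mem_lineImg.mpr ⟨ν, by rw [hν, mulVec_inv_mulVec]⟩
  set φ := G.phi v with hφ
  have hφv : φ v = 0 := phi_self halt G v
  have hφL : ∀ x ∈ L, φ x = 0 := by
    rintro _ ⟨μ, rfl⟩
    rw [phi_ev hK (G.klin v), hφv, mul_zero]
  -- a point of the image orthogonal to `v`
  have claimS : ∀ l ∈ L', l ∉ L → φ l = 0 →
      (∀ x ∈ L', φ x = 0) ∧ ∀ x ∈ L', ∃ a : F, x - a • l ∈ L := by
    intro l hl hlL hφl
    have step : ∀ w, φ w = 0 → ev K v (G.phi w l) ∈ L' →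
        ∀ x ∈ L', ev K v (G.phi w x) + ev K w (φ x) ∈ L' := by
      intro w hφw hwl x hx
      obtain ⟨e, he, hex⟩ := inH_siegel hf hK hsa halt G hT (show G.phi v w = 0 from hφw)
      have hwv : G.phi w v = 0 := by rw [phi_swap hf halt G w v, ← hφ, hφw, neg_zero]
      have hfix : ∀ y ∈ L, (e : Matrix ι ι F) *ᵥ y = y := by
        rintro _ ⟨μ, rfl⟩
        rw [hex]
        simp only [LinearMap.add_apply, LinearMap.comp_apply, phi_ev hK (G.klin _),
          phi_self halt G, hwv, mul_zero, map_zero, add_zero]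
      have h2 := claimA e he hfix l hl hlL (by
        rw [hex, LinearMap.add_apply, LinearMap.comp_apply, LinearMap.comp_apply, ← hφ, hφl,
          map_zero, add_zero]
        exact add_mem hl hwl) x hx
      rw [hex] at h2
      simpa [hφ] using sub_mem h2 hx
    have hzero : ∀ x ∈ L', φ x = 0 := by
      intro x hx
      by_contra hx0
      have hW : ∀ y, φ y = 0 → G.phi y l = 0 → ∀ μ, ev K y μ ∈ L ⊔ L' := by
        intro y hy1 hy2 μ
        set w := ev K y (μ * (φ x)⁻¹) with hw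
        have h3 := step w (by rw [hw, phi_ev hK (G.klin v), hy1, mul_zero])
          (by rw [hw, phi_ev_left hK hsa G, hy2, mul_zero, map_zero]; exact zero_mem _) x hx
        have h4 : ev K w (φ x) ∈ L ⊔ L' := by
          rw [← add_sub_cancel_left (ev K v (G.phi w x)) (ev K w (φ x))]
          exact sub_mem (Submodule.mem_sup_right h3) (Submodule.mem_sup_left ⟨_, rfl⟩)
        rwa [hw, ev_apply _ (φ x), ← ev_mul, mul_comm (φ x), mul_assoc, inv_mul_cancel₀ hx0,
          mul_one] at h4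
      have hle' : L ⊔ kline K l ≤ L ⊔ L' := sup_le le_sup_left (by
        rintro _ ⟨μ, rfl⟩
        exact hW l hφl (phi_self halt G l) μ)
      have h2 := Submodule.finrank_mono hle'
      have h3 := Submodule.finrank_sup_add_finrank_inf_eq L L'
      have h4 := Submodule.finrank_sup_add_finrank_inf_eq L (kline K l)
      have h5 : L ⊓ kline K l = ⊥ := by
        rw [Submodule.eq_bot_iff]
        rintro y ⟨hy, k, rfl⟩
        by_cases hk : k = 0
        · rw [hk, map_zero]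
        · exact absurd (mem_kline_of_mulVec hK hk hy) hlL
      rw [h5, finrank_bot, finrank_kline hK (fun h0 : l = 0 => hlL (h0 ▸ zero_mem L))] at h4
      rw [hr'] at h3
      omega
    refine ⟨hzero, decomp_of_closed hK hr hv hr' hne hc0 hcL hl hlL fun ψ hψ hψv hψl x hx => ?_⟩
    obtain ⟨w, hw⟩ := exists_phi_eq hf G hψ
    have hφw : φ w = 0 := by rw [hφ, phi_swap hf halt G v w, hw, hψv, neg_zero]
    have := step w hφw (by rw [hw]; exact hψl) x hx
    rwa [hzero x hx, map_zero, add_zero, hw] at this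
  -- the stabilising element
  obtain ⟨e, heH, l, hl, hlL, hdec, hefix, hel, U, hU, hUfix⟩ : ∃ e ∈ H, ∃ l ∈ L', l ∉ L ∧
      (∀ x ∈ L', ∃ a : F, x - a • l ∈ L) ∧
      (∀ x ∈ L, (e : Matrix ι ι F) *ᵥ x = x) ∧
      (e : Matrix ι ι F) *ᵥ l = l + ev K v c ∧
      ∃ U : Submodule F (ι → F), Fintype.card ι ≤ Module.finrank F U + 2 * r ∧
        ∀ u ∈ U, (e : Matrix ι ι F) *ᵥ u = u := by
    have hker : ∀ ψ : (ι → F) →ₗ[F] K,
        Fintype.card ι ≤ Module.finrank F (LinearMap.ker ψ) + r := fun ψ => by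
      haveI : Module.Finite F K := Module.finite_of_finrank_pos (by rw [hK.finrank_eq]; exact hr.pos)
      have h2 := LinearMap.finrank_range_add_finrank_ker ψ
      have h3 := (LinearMap.range ψ).finrank_le
      rw [hK.finrank_eq] at h3
      rw [Module.finrank_fintype_fun_eq_card] at h2
      omega
    by_cases hex : ∃ l ∈ L', φ l ≠ 0
    · obtain ⟨l, hl, hl0⟩ := hex
      have hlL : l ∉ L := fun h0 => hl0 (hφL l h0)
      obtain ⟨e, he, hexv⟩ := hT v (c * (φ l)⁻¹)
      have hexv' : ∀ y, (e : Matrix ι ι F) *ᵥ y = y + ev K v (c * (φ l)⁻¹ * φ y) := hexv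
      refine ⟨e, he, l, hl, hlL, fun x hx => ?_, fun x hx => ?_, ?_, LinearMap.ker φ, ?_,
        fun u hu => ?_⟩
      · obtain ⟨a, ha⟩ := scalar_of_closed hK hr hv hr' hne hc0 hcL
          (d := φ x * (φ l)⁻¹) fun e' he' => by
            obtain ⟨t, ht, htx⟩ := hT v (e' * (φ l)⁻¹)
            have h2 := claimA t ht (fun y hy => by
              rw [htx, LinearMap.comp_apply, LinearMap.comp_apply, LinearMap.mulLeft_apply,
                ← hφ, hφL y hy, mul_zero, map_zero, add_zero]) l hl hlL (by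
              rw [htx, LinearMap.comp_apply, LinearMap.comp_apply, LinearMap.mulLeft_apply, ← hφ,
                mul_assoc, inv_mul_cancel₀ hl0, mul_one]
              exact add_mem hl he') x hx
            rw [htx, LinearMap.comp_apply, LinearMap.comp_apply, LinearMap.mulLeft_apply, ← hφ] at h2
            rw [show φ x * (φ l)⁻¹ * e' = e' * (φ l)⁻¹ * φ x by ring]
            simpa using sub_mem h2 hx
        refine ⟨a, ?_⟩
        by_contra hout
        have h3 : φ (x - a • l) = 0 := by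
          rw [map_sub, map_smul, Algebra.smul_def, ← ha, mul_assoc, inv_mul_cancel₀ hl0, mul_one,
            sub_self]
        exact hl0 ((claimS _ (sub_mem hx (L'.smul_mem a hl)) hout h3).1 l hl)
      · rw [hexv', hφL x hx, mul_zero, map_zero, add_zero]
      · rw [hexv', mul_assoc, inv_mul_cancel₀ hl0, mul_one]
      · have := hker φ; omega
      · rw [hexv', LinearMap.mem_ker.mp hu, mul_zero, map_zero, add_zero]
    · push Not at hex
      obtain ⟨-, hdec⟩ := claimS l0 hl0 hl0L (hex l0 hl0)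
      obtain ⟨ψ, hψ, hψL, hψl⟩ := exists_klin hK hr.one_lt.le (stable_kline v) hl0L
      obtain ⟨w, hw⟩ := exists_phi_eq hf G (isKLin_smul mul_comm hψ c)
      have hvw : G.phi v w = 0 := by
        rw [phi_swap hf halt G v w, hw]
        show -(c * ψ v) = 0
        rw [hψL v (self_mem_kline v), mul_zero, neg_zero]
      obtain ⟨e, he, hexv⟩ := inH_siegel hf hK hsa halt G hT hvw
      have hexv' : ∀ y, (e : Matrix ι ι F) *ᵥ y = y + (ev K v (c * ψ y) + ev K w (φ y)) := by
        intro y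
        rw [hexv, LinearMap.add_apply, LinearMap.comp_apply, LinearMap.comp_apply, hw]
        rfl
      refine ⟨e, he, l0, hl0, hl0L, hdec, fun x hx => ?_, ?_,
        LinearMap.ker φ ⊓ LinearMap.ker ψ, ?_, fun u hu => ?_⟩
      · rw [hexv', hψL x hx, hφL x hx, mul_zero, map_zero, map_zero, add_zero, add_zero]
      · rw [hexv', hψl, hex l0 hl0, mul_one, map_zero, add_zero]
      · have h2 := hker φ
        have h3 := hker ψ
        have h4 := Submodule.finrank_sup_add_finrank_inf_eq (LinearMap.ker φ) (LinearMap.ker ψ)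
        have h5 := (LinearMap.ker φ ⊔ LinearMap.ker ψ).finrank_le
        rw [Module.finrank_fintype_fun_eq_card] at h5
        omega
      · rw [hexv', LinearMap.mem_ker.mp hu.1, LinearMap.mem_ker.mp hu.2, mul_zero, map_zero,
          map_zero, add_zero, add_zero]
  obtain ⟨κ, hκ⟩ := mem_lineImg.mp hcL
  obtain ⟨ξ, hξ, hξl⟩ := exists_annihilator hlL
  refine ⟨h⁻¹ * e * h, mul_mem (mul_mem (inv_mem hh) heH) hh, κ,
    dotLin ξ ∘ₗ (h : Matrix ι ι F).mulVecLin ∘ₗ ev K v, ?_, ?_, ?_, fun μ => ?_,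
    U.map ((h⁻¹ : GL ι F) : Matrix ι ι F).mulVecLin, ?_, ?_⟩
  · exact fun h0 => hc0 (ev_injective hK hv (by rw [← hκ, h0, map_zero, mulVec_zero]))
  · intro h0
    obtain ⟨lam, hlam⟩ := mem_lineImg.mp hl
    have h2 : ξ ⬝ᵥ ((h : Matrix ι ι F) *ᵥ ev K v lam) = 0 := LinearMap.congr_fun h0 lam
    rw [hlam, hξl] at h2
    exact one_ne_zero h2
  · show ξ ⬝ᵥ ((h : Matrix ι ι F) *ᵥ ev K v κ) = 0
    rw [hκ]
    exact hξ _ ⟨c, rfl⟩
  · obtain ⟨a, ha⟩ := hdec _ (mem_lineImg.mpr ⟨μ, rfl⟩)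
    have h2 : ξ ⬝ᵥ ((h : Matrix ι ι F) *ᵥ ev K v μ) = a := by
      have := hξ _ ha
      rwa [dotProduct_sub, dotProduct_smul, hξl, smul_eq_mul, mul_one, sub_eq_zero] at this
    show _ = ev K v μ + (ξ ⬝ᵥ ((h : Matrix ι ι F) *ᵥ ev K v μ)) • ev K v κ
    rw [h2]
    refine mulVec_injective h ?_
    show (h : Matrix ι ι F) *ᵥ _ = (h : Matrix ι ι F) *ᵥ _
    rw [Units.val_mul, Units.val_mul, ← mulVec_mulVec, ← mulVec_mulVec, mulVec_inv_mulVec,
      mulVec_add, mulVec_smul, hκ]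
    have h3 := hefix _ ha
    rw [mulVec_sub, mulVec_smul, hel, smul_add, sub_add_eq_sub_sub] at h3
    linear_combination (norm := module) h3
  · rwa [finrank_map_gl]
  · rintro _ ⟨u, hu, rfl⟩
    show _ *ᵥ (_ *ᵥ u) = _ *ᵥ u
    rw [Units.val_mul, Units.val_mul, ← mulVec_mulVec, ← mulVec_mulVec, mulVec_inv_mulVec,
      hUfix u hu]

end Cfsg.Agent.ExtFieldMax.Sp
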