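import Cfsg.Agent.ExtFieldMax.Overgroup
import Cfsg.Agent.MaxSub.Alt

/-!
The form over the field behind a symplectic form with self-adjoint field subalgebra, and its
transvections (helper98).
-/

set_option autoImplicit false

namespace Cfsg.Agent.ExtFieldMax.Sp

open Matrix Cfsg.Agent.MaxSub

variable {ι : Type} [Fintype ι] [DecidableEq ι] {F : Type*} [Field F]
variable {f : (ι → F) → (ι → F) → F} {K : Subalgebra F (Matrix ι ι F)} {r : ℕ}

/-- A form over `K` lying over `f`; `phi v x` is its value at `(x, v)`. -/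
structure KForm (f : (ι → F) → (ι → F) → F) (K : Subalgebra F (Matrix ι ι F)) where
  /-- The functional relating the two forms. -/
  theta : K →ₗ[F] F
  /-- The form over `K`. -/
  phi : (ι → F) → ((ι → F) →ₗ[F] K)
  klin : ∀ v, IsKLin (phi v)
  spec : ∀ v (k : K) x, theta (k * phi v x) = f ((k : Matrix ι ι F) *ᵥ x) v
  sep : ∀ a : K, (∀ k, theta (k * a) = 0) → a = 0

theorem exists_kForm (hf : Geo.IsSymplecticForm f) (hK : Geo.IsFieldSubalgebra r K)
    (hr : r.Prime) : Nonempty (KForm f K) := by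
  haveI : Module.Finite F K := Module.finite_of_finrank_pos (by rw [hK.finrank_eq]; exact hr.pos)
  haveI : Nontrivial K := (isField_of hK hr.one_lt.le).nontrivial
  obtain ⟨θ, hθ⟩ : ∃ θ : K →ₗ[F] F, θ ≠ 0 := by
    let b := Module.finBasis F K
    refine ⟨b.coord ⟨0, Module.finrank_pos⟩, fun h => ?_⟩
    have := LinearMap.congr_fun h (b ⟨0, Module.finrank_pos⟩)
    simp at this
  let T : K →ₗ[F] (K →ₗ[F] F) :=
    { toFun := fun x => θ ∘ₗ LinearMap.mulRight F x
      map_add' := fun x y => LinearMap.ext fun z => by simp [mul_add]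
      map_smul' := fun c x => LinearMap.ext fun z => by simp }
  have hT : Function.Injective T := by
    rw [injective_iff_map_eq_zero]
    intro x hx
    by_contra hx0
    obtain ⟨b, hb, hxb⟩ := hK.inv x x.2 fun h => hx0 (Subtype.ext h)
    refine hθ (LinearMap.ext fun z => ?_)
    have h1 : θ ((z * ⟨b, hb⟩) * x) = 0 := LinearMap.congr_fun hx (z * ⟨b, hb⟩)
    rwa [mul_assoc, kmul_comm hK ⟨b, hb⟩ x, show x * (⟨b, hb⟩ : K) = 1 from Subtype.ext hxb,
      mul_one] at h1
  let e := LinearEquiv.ofBijective T ⟨hT,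
    (LinearMap.injective_iff_surjective_of_finrank_eq_finrank
      (by rw [Module.finrank_linearMap, Module.finrank_self, mul_one])).mp hT⟩
  let Φ : (ι → F) → ((ι → F) →ₗ[F] (K →ₗ[F] F)) := fun v =>
    { toFun := fun x => lmap hf.bilinear v ∘ₗ ev K x
      map_add' := fun x y => LinearMap.ext fun k => by
        simp [mulVec_add, hf.bilinear.add_left]
      map_smul' := fun c x => LinearMap.ext fun k => by
        simp [mulVec_smul, hf.bilinear.smul_left] }
  have he : ∀ v x (k : K), θ (k * e.symm (Φ v x)) = f ((k : Matrix ι ι F) *ᵥ x) v := fun v x k =>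
    LinearMap.congr_fun (e.apply_symm_apply (Φ v x)) k
  refine ⟨⟨θ, fun v => e.symm.toLinearMap ∘ₗ Φ v, fun v k x => ?_, fun v k x => he v x k,
    fun a ha => hT (by rw [map_zero]; exact LinearMap.ext ha)⟩⟩
  show e.symm (Φ v _) = k * e.symm (Φ v x)
  apply e.injective
  rw [LinearEquiv.apply_symm_apply]
  refine LinearMap.ext fun l => ?_
  show f (ev K _ l) v = θ (l * (k * e.symm (Φ v x)))
  rw [← mul_assoc, he, ev_apply, mulVec_mulVec]
  rfl

variable (hf : Geo.IsSymplecticForm f) (hK : Geo.IsFieldSubalgebra r K)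
variable (hsa : Geo.IsSelfAdjointFor f K)
variable (halt : ∀ k ∈ K, ∀ v, f (k *ᵥ v) v = 0)
variable (G : KForm f K)

theorem phi_one (v x : ι → F) : G.theta (G.phi v x) = f x v := by
  have := G.spec v 1 x
  rwa [one_mul, show ((1 : K) : Matrix ι ι F) = 1 from rfl, one_mulVec] at this

theorem phi_ext {a b : K} (h : ∀ k, G.theta (k * a) = G.theta (k * b)) : a = b :=
  sub_eq_zero.mp (G.sep _ fun k => by rw [mul_sub, map_sub, h, sub_self])

include halt in
theorem phi_self (v : ι → F) : G.phi v v = 0 :=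
  G.sep _ fun k => by rw [G.spec]; exact halt k k.2 v

include hf in
theorem phi_add (v w x : ι → F) : G.phi (v + w) x = G.phi v x + G.phi w x :=
  phi_ext G fun k => by rw [mul_add, map_add, G.spec, G.spec, G.spec, hf.bilinear.add_right]

include hf halt in
theorem phi_swap (v x : ι → F) : G.phi v x = -G.phi x v := by
  have h := phi_self halt G (x + v)
  rw [phi_add hf G, map_add, map_add, phi_self halt G, phi_self halt G, zero_add, add_zero,
    add_comm] at h
  exact eq_neg_of_add_eq_zero_left h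

include hK hsa in
theorem phi_ev_left (v : ι → F) (k : K) (x : ι → F) :
    G.phi (ev K v k) x = k * G.phi v x :=
  phi_ext G fun l => by
    rw [G.spec, ev_apply, ← mul_assoc, G.spec, ← hsa k k.2, mulVec_mulVec, kmul_comm hK l k]
    rfl

include hf in
theorem exists_phi_eq {ψ : (ι → F) →ₗ[F] K} (hψ : IsKLin ψ) : ∃ w, G.phi w = ψ := by
  obtain ⟨w, hw⟩ := exists_rep hf.bilinear hf.nondegenerate (vec (G.theta ∘ₗ ψ))
  refine ⟨w, LinearMap.ext fun x => phi_ext G fun k => ?_⟩
  rw [G.spec, ← hψ, ← rep_dot hf.bilinear, hw, vec_dot]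
  rfl

include hf in
theorem phi_ne_zero {v : ι → F} (hv : v ≠ 0) : ∃ x, G.phi v x ≠ 0 := by
  obtain ⟨x, hx⟩ := (hf.nondegenerate v hv).1
  exact ⟨x, fun h => hx (by rw [← phi_one G, h, map_zero])⟩

/-- A map `x ↦ x + k g(x,v) v` is in `H`. -/
def HasTransvections (G : KForm f K) (H : Subgroup (GL ι F)) : Prop :=
  ∀ (v : ι → F) (k : K), InH H (ev K v ∘ₗ LinearMap.mulLeft F k ∘ₗ G.phi v)

include hf hK hsa halt in
theorem hasTransvections_of (hr : 1 ≤ r) {H : Subgroup (GL ι F)}
    (hC : ∀ g ∈ isom f, (∀ (k : K) x, (g : Matrix ι ι F) *ᵥ ((k : Matrix ι ι F) *ᵥ x) =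
      (k : Matrix ι ι F) *ᵥ ((g : Matrix ι ι F) *ᵥ x)) → g ∈ H) : HasTransvections G H := by
  intro v k
  letI : Field K := (isField_of hK hr).toField
  have hd : IsKLin (LinearMap.mulLeft F k ∘ₗ G.phi v) := isKLin_smul mul_comm (G.klin v) k
  have hu : IsUnit (1 + (LinearMap.mulLeft F k ∘ₗ G.phi v) v) := by
    rw [LinearMap.comp_apply, phi_self halt G, map_zero, add_zero]
    exact isUnit_one
  refine ⟨el hK _ hd v hu, hC _ (fun x y => ?_) (el_comm hK _ hd v hu), el_mulVec hK _ hd v hu⟩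
  show f ((el hK _ hd v hu : Matrix ι ι F) *ᵥ x) ((el hK _ hd v hu : Matrix ι ι F) *ᵥ y) = f x y
  rw [el_mulVec, el_mulVec, ← phi_one G, ← phi_one G y x]
  congr 1
  simp only [LinearMap.comp_apply, LinearMap.mulLeft_apply, phi_add hf G, map_add,
    phi_ev_left hK hsa G, phi_ev hK (G.klin _), phi_self halt G, mul_zero, add_zero]
  rw [phi_swap hf halt G y v]
  ring

variable {H : Subgroup (GL ι F)} (hT : HasTransvections G H)

include hf hK hsa halt hT in
/-- The maps `x ↦ x + g(x,w) v + g(x,v) w` for orthogonal `v`, `w`. -/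
theorem inH_siegel {v w : ι → F} (hvw : G.phi v w = 0) :
    InH H (ev K v ∘ₗ G.phi w + ev K w ∘ₗ G.phi v) := by
  obtain ⟨a, ha, hax⟩ := hT (v + w) 1
  obtain ⟨b, hb, hbx⟩ := hT v (-1)
  obtain ⟨c, hc, hcx⟩ := hT w (-1)
  refine ⟨a * b * c, mul_mem (mul_mem ha hb) hc, fun x => ?_⟩
  have hwv : G.phi w v = 0 := by rw [phi_swap hf halt G, hvw, neg_zero]
  simp only [Units.val_mul, ← mulVec_mulVec, hax, hbx, hcx, LinearMap.comp_apply,
    LinearMap.mulLeft_apply, LinearMap.add_apply, phi_add hf G, map_add, phi_ev hK (G.klin _),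
    hvw, hwv, phi_self halt G, mul_zero, map_zero, add_zero, one_mul, neg_mul, map_neg]
  simp only [ev_apply, mulVec_add, Subalgebra.coe_mul, Subalgebra.coe_neg, Subalgebra.coe_one,
    Matrix.neg_mul, Matrix.one_mul, neg_mulVec]
  module

include hf hK hsa halt hT in
/-- Transitivity. -/
theorem exists_move (hr : 1 ≤ r) {z u : ι → F} (hz : z ≠ 0) (hu : u ≠ 0) :
    ∃ g ∈ H, (g : Matrix ι ι F) *ᵥ z = u ∧ ∀ (k : K) x,
      (g : Matrix ι ι F) *ᵥ ((k : Matrix ι ι F) *ᵥ x) =
        (k : Matrix ι ι F) *ᵥ ((g : Matrix ι ι F) *ᵥ x) := by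
  letI : Field K := (isField_of hK hr).toField
  have key : ∀ {z u : ι → F}, G.phi u z ≠ 0 → ∃ g ∈ H, (g : Matrix ι ι F) *ᵥ z = u ∧ ∀ (k : K) x,
      (g : Matrix ι ι F) *ᵥ ((k : Matrix ι ι F) *ᵥ x) =
        (k : Matrix ι ι F) *ᵥ ((g : Matrix ι ι F) *ᵥ x) := by
    intro z u h
    obtain ⟨g, hg, hgx⟩ := hT (u - z) (G.phi u z)⁻¹
    refine ⟨g, hg, ?_, fun k x => ?_⟩
    · have h1 : G.phi (u - z) z = G.phi u z := by
        have := phi_add hf G (u - z) z z
        rw [sub_add_cancel, phi_self halt G, add_zero] at this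
        exact this.symm
      rw [hgx, LinearMap.comp_apply, LinearMap.comp_apply, LinearMap.mulLeft_apply, h1,
        inv_mul_cancel₀ h, ev_one, add_sub_cancel]
    · rw [hgx, hgx]
      simp only [LinearMap.comp_apply, LinearMap.mulLeft_apply]
      rw [G.klin, mul_left_comm, ev_mul, mulVec_add]
  obtain ⟨y, -, hy1, hy2⟩ := exists_mem_notMem_notMem (P := (⊤ : Submodule F (ι → F)))
    (Q := LinearMap.ker (G.phi z)) (R := LinearMap.ker (G.phi u))
    (by simpa using phi_ne_zero hf G hz) (by simpa using phi_ne_zero hf G hu)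
  rw [LinearMap.mem_ker] at hy1 hy2
  obtain ⟨g, hg, hgz, hgc⟩ := key (z := z) (u := y)
    (fun h => hy1 (by rw [phi_swap hf halt G, h, neg_zero]))
  obtain ⟨g', hg', hgy, hgc'⟩ := key (z := y) (u := u) hy2
  exact ⟨g' * g, mul_mem hg' hg, by rw [Units.val_mul, ← mulVec_mulVec, hgz, hgy],
    fun k x => by rw [Units.val_mul, ← mulVec_mulVec, ← mulVec_mulVec, hgc, hgc']⟩

end Cfsg.Agent.ExtFieldMax.Sp
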