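import Mathlib.LinearAlgebra.Dual.Lemmas
import Mathlib.RingTheory.Adjoin.Basic
import Mathlib.LinearAlgebra.FreeModule.PID
import Mathlib.FieldTheory.Finite.Basic
import Mathlib.Algebra.CharP.Two
import Mathlib.Tactic

/-!
Alternating maps of a finite field of characteristic two moved by its multiplicative group
(helper98).
-/

set_option autoImplicit false

namespace Cfsg.Agent.ExtFieldMax.Sp

variable {F E : Type*} [Field F] [Finite F] [Field E] [Algebra F E] [FiniteDimensional F E]

/-- The map `y ↦ θ(p y) q + θ(q y) p`. -/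
def pairMap (θ : E →ₗ[F] F) (p q : E) : E →ₗ[F] E :=
  (θ ∘ₗ LinearMap.mulLeft F p).smulRight q + (θ ∘ₗ LinearMap.mulLeft F q).smulRight p

/-- The maps closed under `ψ ↦ e ∘ ψ ∘ e` generated by one alternating pair contain all pairs. -/
theorem pairMap_mem [CharP F 2] (hp : (Module.finrank F E).Prime) (θ : E →ₗ[F] F)
    {M : AddSubgroup (E →ₗ[F] E)}
    (hM : ∀ (e : E), e ≠ 0 → ∀ ψ ∈ M, LinearMap.mulLeft F e ∘ₗ ψ ∘ₗ LinearMap.mulLeft F e ∈ M)
    {κ b : E} (hκ : κ ≠ 0) (hb : ∀ s : F, b ≠ s • κ) (h : pairMap θ κ b ∈ M) (p q : E) :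
    pairMap θ p q ∈ M := by
  haveI : Finite E := Module.finite_of_finite F
  haveI : CharP E 2 := charP_of_injective_algebraMap (algebraMap F E).injective 2
  have hsq : ∀ x : E, ∃ y, y * y = x := by
    have hinj : Function.Injective fun y : E => y * y := fun y z hyz => by
      have h1 : (y + z) * (y + z) = 0 := by
        rw [show (y + z) * (y + z) = y * y + z * z + 2 * (y * z) by ring,
          show y * y = z * z from hyz, CharTwo.two_eq_zero, zero_mul, add_zero,
          CharTwo.add_self_eq_zero]
      exact (CharTwo.add_eq_zero.mp (mul_self_eq_zero.mp h1))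
    exact Finite.injective_iff_surjective.mp hinj
  have hsqF : ∀ x : F, ∃ y, y * y = x := by
    have hinj : Function.Injective fun y : F => y * y := fun y z hyz => by
      have h1 : (y + z) * (y + z) = 0 := by
        rw [show (y + z) * (y + z) = y * y + z * z + 2 * (y * z) by ring,
          show y * y = z * z from hyz, CharTwo.two_eq_zero, zero_mul, add_zero,
          CharTwo.add_self_eq_zero]
      exact (CharTwo.add_eq_zero.mp (mul_self_eq_zero.mp h1))
    exact Finite.injective_iff_surjective.mp hinj
  let M' : Submodule F (E →ₗ[F] E) :=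
    { M.toAddSubmonoid with
      smul_mem' := fun c ψ hψ => by
        obtain ⟨s, rfl⟩ := hsqF c
        rcases eq_or_ne s 0 with rfl | hs
        · rw [zero_mul, zero_smul]; exact M.zero_mem
        show (s * s) • ψ ∈ M
        convert hM (algebraMap F E s) ((map_ne_zero _).mpr hs) ψ hψ using 1
        refine LinearMap.ext fun x => ?_
        simp only [LinearMap.smul_apply, LinearMap.comp_apply, LinearMap.mulLeft_apply]
        rw [← Algebra.smul_def, ← Algebra.smul_def, map_smul, smul_smul] }
  by_contra hout
  obtain ⟨χ, hχ, hχM⟩ := Submodule.exists_dual_map_eq_bot_of_notMem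
    (p := M') (show pairMap θ p q ∉ M' from hout) inferInstance
  have hχ0 : ∀ ψ ∈ M, χ ψ = 0 := fun ψ hψ => (Submodule.eq_bot_iff _).mp hχM _ ⟨ψ, hψ, rfl⟩
  have haddl : ∀ x y z, χ (pairMap θ (x + y) z) = χ (pairMap θ x z) + χ (pairMap θ y z) := by
    intro x y z
    rw [← map_add]
    congr 1
    refine LinearMap.ext fun u => ?_
    simp only [pairMap, LinearMap.add_apply, LinearMap.smulRight_apply, LinearMap.comp_apply,
      LinearMap.mulLeft_apply, add_mul, map_add, add_smul, smul_add]
    module
  have hcomm : ∀ x y, χ (pairMap θ x y) = χ (pairMap θ y x) := fun x y => by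
    rw [pairMap, pairMap, add_comm]
  have haddr : ∀ x y z, χ (pairMap θ x (y + z)) = χ (pairMap θ x y) + χ (pairMap θ x z) :=
    fun x y z => by rw [hcomm x, haddl, hcomm y, hcomm z]
  have hsmul : ∀ (s : F) x y, χ (pairMap θ (s • x) y) = χ (pairMap θ x (s • y)) := by
    intro s x y
    congr 1
    refine LinearMap.ext fun u => ?_
    simp only [pairMap, LinearMap.add_apply, LinearMap.smulRight_apply, LinearMap.comp_apply,
      LinearMap.mulLeft_apply, smul_mul_assoc, map_smul]
    module
  have hzero : ∀ y, χ (pairMap θ y 0) = 0 := fun y => by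
    have := haddr y 0 0
    rw [add_zero] at this
    exact left_eq_add.mp this
  have halt : ∀ y, χ (pairMap θ y y) = 0 := fun y => by
    rw [pairMap, map_add, CharTwo.add_self_eq_zero]
  set a := b / κ with ha
  have hmove : ∀ y, χ (pairMap θ y (a * y)) = 0 := by
    intro y
    rcases eq_or_ne y 0 with rfl | hy
    · rw [mul_zero, halt]
    refine hχ0 _ ?_
    convert hM (y / κ) (div_ne_zero hy hκ) _ h using 1
    refine LinearMap.ext fun u => ?_
    simp only [pairMap, LinearMap.add_apply, LinearMap.smulRight_apply, LinearMap.comp_apply,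
      LinearMap.mulLeft_apply, mul_add, mul_smul_comm, ha]
    rw [show κ * (y / κ * u) = y * u by field_simp, show b * (y / κ * u) = b / κ * y * u by ring,
      show y / κ * b = b / κ * y by ring, show y / κ * κ = y by field_simp]
  let C : Subalgebra F E :=
    { carrier := {c | ∀ y z, χ (pairMap θ (c * y) z) = χ (pairMap θ y (c * z))}
      mul_mem' := fun {c d} hc hd y z => by
        rw [mul_assoc, hc, hd, mul_assoc, ← mul_assoc d, mul_comm d c, mul_assoc]
      one_mem' := fun y z => by rw [one_mul, one_mul]
      add_mem' := fun {c d} hc hd y z => by rw [add_mul, add_mul, haddl, haddr, hc, hd]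
      zero_mem' := fun y z => by rw [zero_mul, zero_mul, hcomm, hzero, hzero]
      algebraMap_mem' := fun s y z => by rw [← Algebra.smul_def, ← Algebra.smul_def, hsmul] }
  have haC : a ∈ C := fun y z => by
    have h1 := hmove (y + z)
    rw [mul_add, haddl, haddr, haddr, hmove, hmove, zero_add, add_zero, CharTwo.add_eq_zero,
      hcomm z] at h1
    exact h1.symm
  haveI := Subalgebra.isSimpleOrder_of_finrank_prime F E hp
  have hC : C = ⊤ := (IsSimpleOrder.eq_bot_or_eq_top C).resolve_left fun hb' => by
    rw [hb', Algebra.mem_bot] at haC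
    obtain ⟨s, hs⟩ := haC
    refine hb s ?_
    rw [Algebra.smul_def, hs, ha, div_mul_cancel₀ _ hκ]
  refine hχ ?_
  have hpC : p ∈ C := hC ▸ Algebra.mem_top
  obtain ⟨y, hy⟩ := hsq (p * q)
  have hyC : y ∈ C := hC ▸ Algebra.mem_top
  have := hpC 1 q
  rw [mul_one] at this
  rw [this, ← hy, ← hyC 1 y, mul_one, halt]

end Cfsg.Agent.ExtFieldMax.Sp
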