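import Cfsg.Agent.ExtFieldMax.Sp.Intersect
import Cfsg.Agent.ExtFieldMax.Sp.Span

/-!
Overgroups of extension field subgroups of symplectic groups (helper98).
-/

set_option autoImplicit false

namespace Cfsg.Agent.ExtFieldMax.Sp

open Matrix Cfsg.Agent.MaxSub

variable {ι : Type} [Fintype ι] [DecidableEq ι] {F : Type*} [Field F] [Finite F]
variable {f : (ι → F) → (ι → F) → F} {K : Subalgebra F (Matrix ι ι F)} {r : ℕ}
variable (hK : Geo.IsFieldSubalgebra r K) (hr : r.Prime) (hf : Geo.IsSymplecticForm f)
variable (hsa : Geo.IsSelfAdjointFor f K) (halt : ∀ k ∈ K, ∀ v, f (k *ᵥ v) v = 0)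
variable (G : KForm f K) {H : Subgroup (GL ι F)} (hT : HasTransvections G H)
variable (hHI : H ≤ isom f)

include hK hr in
theorem exists_theta_rep (χ : K →ₗ[F] F) : ∃ a : K, ∀ k, G.theta (k * a) = χ k := by
  haveI : Module.Finite F K := Module.finite_of_finrank_pos (by rw [hK.finrank_eq]; exact hr.pos)
  let T : K →ₗ[F] (K →ₗ[F] F) :=
    { toFun := fun x => G.theta ∘ₗ LinearMap.mulRight F x
      map_add' := fun x y => LinearMap.ext fun z => by simp [mul_add]
      map_smul' := fun c x => LinearMap.ext fun z => by simp }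
  have hT' : Function.Injective T := (injective_iff_map_eq_zero _).mpr fun a ha =>
    G.sep a fun k => LinearMap.congr_fun ha k
  obtain ⟨a, ha⟩ := (LinearMap.injective_iff_surjective_of_finrank_eq_finrank
    (by rw [Module.finrank_linearMap, Module.finrank_self, mul_one])).mp hT' χ
  exact ⟨a, fun k => LinearMap.congr_fun ha k⟩

include hK hr hf hsa halt hT hHI in
/-- A group not permuting the lines over the field is the whole symplectic group. -/
theorem isom_le_of_not_lines (hcard : r = 2 → 6 * r < Fintype.card ι)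
    {v : ι → F} (hv : v ≠ 0)
    (hn : ∃ g ∈ H, ∃ (k : K) (x : ι → F),
      (g : Matrix ι ι F) *ᵥ ((k : Matrix ι ι F) *ᵥ x) ∉ kline K ((g : Matrix ι ι F) *ᵥ x)) :
    isom f ≤ H := by
  letI : Field K := (isField_of hK hr.one_lt.le).toField
  haveI : Module.Finite F K := Module.finite_of_finrank_pos (by rw [hK.finrank_eq]; exact hr.pos)
  obtain ⟨g, hg, κ, θ', hκ, hθ0, hθκ, hgv, U, hU, hUfix⟩ :=
    exists_stabilizer hK hr hf hsa halt G hT hv hn
  obtain ⟨a, ha⟩ := exists_theta_rep hK hr G θ'
  set φ := G.phi v with hφ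
  have hφv : φ v = 0 := phi_self halt G v
  have hkill : ∀ μ, φ (ev K v μ) = 0 := fun μ => by
    rw [phi_ev hK (G.klin v), hφv, mul_zero]
  let M : AddSubgroup (K →ₗ[F] K) :=
    { carrier := {ψ | InH H (ev K v ∘ₗ ψ ∘ₗ φ)}
      add_mem' := fun {S T} hS hT' => by
        have := hS.add hT' fun x => by simp only [LinearMap.comp_apply, hkill, map_zero]
        rwa [← LinearMap.comp_add, ← LinearMap.add_comp] at this
      zero_mem' := by
        show InH H _
        rw [LinearMap.zero_comp, LinearMap.comp_zero]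
        exact InH.zero
      neg_mem' := fun {T} hT' => by
        have := hT'.neg fun x => by simp only [LinearMap.comp_apply, hkill, map_zero]
        show InH H _
        rwa [LinearMap.neg_comp, LinearMap.comp_neg] }
  have hmult : ∀ k : K, LinearMap.mulLeft F k ∈ M := fun k => hT v k
  have hconj : ∀ e : K, e ≠ 0 → ∀ ψ ∈ M,
      LinearMap.mulLeft F e ∘ₗ ψ ∘ₗ LinearMap.mulLeft F e ∈ M := by
    intro e he ψ hψ
    obtain ⟨t, ht, htx⟩ := hψ
    obtain ⟨d, hd, hdv, hdc⟩ := exists_move hf hK hsa halt G hT hr.one_lt.le hv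
      (u := ev K v e) (fun h0 => he (ev_injective hK hv (h0.trans (map_zero _).symm)))
    refine ⟨d * t * d⁻¹, mul_mem (mul_mem hd ht) (inv_mem hd), fun x => ?_⟩
    obtain ⟨z, rfl⟩ : ∃ z, (d : Matrix ι ι F) *ᵥ z = x := ⟨_, mulVec_inv_mulVec d x⟩
    have hφz : φ z = e * φ ((d : Matrix ι ι F) *ᵥ z) := by
      show G.phi v z = e * G.phi v _
      rw [← phi_ev_left hK hsa G]
      refine phi_ext G fun k => ?_
      rw [G.spec, G.spec, ← hdc, ← hdv, mem_isom.mp (hHI hd)]
    rw [Units.val_mul, Units.val_mul, ← mulVec_mulVec, ← mulVec_mulVec, inv_mulVec_mulVec, htx,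
      mulVec_add]
    simp only [LinearMap.comp_apply, LinearMap.mulLeft_apply, ev_apply _ (ψ _), hdc, hdv]
    rw [← ev_apply, hφz, ev_apply _ (ψ _), ← ev_mul, mul_comm]
  let R : K → K → (K →ₗ[F] K) := fun p q => (G.theta ∘ₗ LinearMap.mulLeft F p).smulRight q
  have hΔ : ∀ b : K, R κ b + R b κ + G.theta (a * b) • R κ κ ∈ M := by
    intro b
    have ha0 : a ≠ 0 := fun h0 => hθ0 (LinearMap.ext fun k => by
      rw [← ha, h0, mul_zero, map_zero, LinearMap.zero_apply])
    obtain ⟨t, ht, htx⟩ := hmult (b * a⁻¹)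
    have h1 : InH H (ev K v ∘ₗ (LinearMap.mulLeft F (b * a⁻¹) +
        (R κ b + R b κ + G.theta (a * b) • R κ κ)) ∘ₗ φ) := by
      refine ⟨g * t * g⁻¹, mul_mem (mul_mem hg ht) (inv_mem hg), fun x => ?_⟩
      obtain ⟨z, rfl⟩ : ∃ z, (g : Matrix ι ι F) *ᵥ z = x := ⟨_, mulVec_inv_mulVec g x⟩
      set y := φ ((g : Matrix ι ι F) *ᵥ z) with hy
      have hφz : φ z = y + G.theta (κ * y) • a := by
        refine phi_ext G fun k => ?_
        rw [hφ, G.spec, hsa k k.2, ← mem_isom.mp (hHI hg), ← ev_apply, hgv, mul_add, map_add,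
          mul_smul_comm, map_smul, ha, hf.bilinear.add_right, hf.bilinear.smul_right, ev_apply,
          ev_apply, ← hsa k k.2, ← hsa κ κ.2, hy, hφ, G.spec, G.spec, smul_eq_mul, mul_comm (θ' k)]
      have e1 : b * a⁻¹ * a = b := by rw [mul_assoc, inv_mul_cancel₀ ha0, mul_one]
      rw [Units.val_mul, Units.val_mul, ← mulVec_mulVec, ← mulVec_mulVec, inv_mulVec_mulVec, htx,
        mulVec_add]
      simp only [R, LinearMap.comp_apply, LinearMap.mulLeft_apply, hgv, LinearMap.add_apply,
        LinearMap.smul_apply, LinearMap.smulRight_apply, ← hy, hφz, map_add, map_smul, ← ha]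
      simp only [mul_add, add_mul, mul_smul_comm, smul_mul_assoc, map_add, map_smul, e1,
        mulVec_add, mulVec_smul, hgv, ← ha]
      rw [show b * a⁻¹ * y * a = b * y by rw [mul_right_comm, e1], mul_comm a b]
      module
    have := sub_mem (show _ ∈ M from h1) (hmult (b * a⁻¹))
    rwa [add_sub_cancel_left] at this
  have hRsmul : ∀ (s : F) p q, R p (s • q) = s • R p q := fun s p q =>
    LinearMap.ext fun x => by
      simp only [R, LinearMap.smul_apply, LinearMap.smulRight_apply, smul_comm s]
  have hRsmul' : ∀ (s : F) p q, R (s • p) q = s • R p q := fun s p q =>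
    LinearMap.ext fun x => by
      simp only [R, LinearMap.smul_apply, LinearMap.smulRight_apply, LinearMap.comp_apply,
        LinearMap.mulLeft_apply, smul_mul_assoc, map_smul, smul_assoc]
  have hθa : ∀ b, G.theta (a * b) = θ' b := fun b => by rw [mul_comm, ha]
  -- it suffices to have all maps of rank one at `κ`
  suffices hR : ∀ s : F, s • R κ κ ∈ M by
    have hu0 : ev K v κ ≠ 0 := fun h0 => hκ (ev_injective hK hv (h0.trans (map_zero _).symm))
    have hbase : ∀ s, st f (ev K v κ) s ∈ H := by
      intro s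
      obtain ⟨t, ht, htx⟩ := hR s
      rwa [show st f (ev K v κ) s = t from gl_ext fun x => ?_]
      rw [st_mulVec hf, htx, ev_apply v κ, ← hsa κ κ.2, ← G.spec]
      simp only [R, LinearMap.comp_apply, LinearMap.smul_apply, LinearMap.smulRight_apply,
        LinearMap.mulLeft_apply, map_smul, smul_smul, ev_apply, hφ]
    refine isom_le_of_st_mem hf fun w s => ?_
    rcases eq_or_ne w 0 with rfl | hw
    · rw [show st f (0 : ι → F) s = 1 by rw [st, tv_zero_left]]
      exact one_mem H
    obtain ⟨d, hd, hdw, -⟩ := exists_move hf hK hsa halt G hT hr.one_lt.le hu0 hw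
    rw [← hdw, ← st_conj hf (hHI hd)]
    exact mul_mem (mul_mem hd (hbase s)) (inv_mem hd)
  by_cases h2 : (2 : F) ≠ 0
  · haveI : NeZero (2 : F) := ⟨h2⟩
    intro s
    have := hΔ ((s / 2) • κ)
    rw [hθa, map_smul, hθκ, smul_zero, zero_smul, add_zero, hRsmul, hRsmul', ← add_smul,
      add_halves] at this
    exact this
  push Not at h2
  haveI : CharP F 2 := CharTwo.of_one_ne_zero_of_two_eq_zero one_ne_zero h2
  obtain ⟨b, hbκ, hbM⟩ : ∃ b : K, (∀ s : F, b ≠ s • κ) ∧ pairMap G.theta κ b ∈ M := by
    rcases Nat.lt_or_ge r 3 with hr2 | hr3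
    · obtain rfl : r = 2 := by have := hr.two_le; omega
      have hn14 := hcard rfl
      obtain ⟨b, hb⟩ : ∃ b : K, ∀ s : F, b ≠ s • κ := by
        by_contra hc
        push Not at hc
        have h1 : Module.finrank F K ≤ 1 := finrank_le_one κ fun k => by
          obtain ⟨s, hs⟩ := hc k
          exact ⟨s, hs.symm⟩
        rw [hK.finrank_eq] at h1
        omega
      refine ⟨b, hb, ?_⟩
      -- a line fixed pointwise and orthogonal to `v`
      set W := U ⊓ LinearMap.ker φ with hW
      obtain ⟨ω, hω⟩ : ∃ ω : K, ω ∉ Submodule.span F {(1 : K)} := by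
        by_contra hc
        push Not at hc
        have h1 : Module.finrank F K ≤ 1 := finrank_le_one 1 fun k =>
          Submodule.mem_span_singleton.mp (hc k)
        rw [hK.finrank_eq] at h1
        omega
      obtain ⟨u, hu, hu0⟩ :
          ∃ u ∈ W ⊓ W.comap (ω : Matrix ι ι F).mulVecLin, u ≠ 0 := by
        refine Submodule.exists_mem_ne_zero_of_ne_bot fun h0 => ?_
        have h1 : Fintype.card ι ≤ Module.finrank F W + 6 := by
          have e1 := LinearMap.finrank_range_add_finrank_ker φ
          have e2 := (LinearMap.range φ).finrank_le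
          have e3 := Submodule.finrank_sup_add_finrank_inf_eq U (LinearMap.ker φ)
          have e4 := (U ⊔ LinearMap.ker φ).finrank_le
          rw [hK.finrank_eq] at e2
          rw [Module.finrank_fintype_fun_eq_card] at e1 e4
          rw [← hW] at e3
          omega
        have hω0 : ω ≠ 0 := fun h => hω (h ▸ zero_mem _)
        have hbij : Function.Bijective (ω : Matrix ι ι F).mulVecLin := by
          refine ⟨(injective_iff_map_eq_zero _).mpr fun x hx => ?_, ?_⟩
          · by_contra hx0
            exact hω0 (eq_zero_of_mulVec hK hx0 hx)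
          · exact LinearMap.surjective_of_injective ((injective_iff_map_eq_zero _).mpr fun x hx => by
              by_contra hx0
              exact hω0 (eq_zero_of_mulVec hK hx0 hx))
        have h2 : Module.finrank F (W.comap (ω : Matrix ι ι F).mulVecLin) = Module.finrank F W :=
          ((LinearEquiv.ofBijective _ hbij).ofSubmodule' W).finrank_eq
        have h3 := Submodule.finrank_sup_add_finrank_inf_eq W (W.comap (ω : Matrix ι ι F).mulVecLin)
        have h4 := (W ⊔ W.comap (ω : Matrix ι ι F).mulVecLin).finrank_le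
        rw [Module.finrank_fintype_fun_eq_card] at h4
        rw [h0, finrank_bot, h2] at h3
        omega
      have huW : ∀ μ, ev K u μ ∈ W := by
        have htop : Submodule.comap (ev K u) W = ⊤ := by
          refine Submodule.eq_top_of_finrank_eq (le_antisymm (Submodule.finrank_le _) ?_)
          have h1 : Submodule.span F {(1 : K)} < Submodule.comap (ev K u) W := by
            refine lt_of_le_of_ne ((Submodule.span_singleton_le_iff_mem _ _).mpr ?_) fun he =>
              hω (he ▸ (show ω ∈ Submodule.comap (ev K u) W from hu.2))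
            show ev K u 1 ∈ W
            rw [ev_one]
            exact hu.1
          have h5 := Submodule.finrank_lt_finrank_of_lt h1
          rw [finrank_span_singleton one_ne_zero] at h5
          rw [hK.finrank_eq]
          omega
        exact fun μ => (htop ▸ Submodule.mem_top : μ ∈ Submodule.comap (ev K u) W)
      have hgu : ∀ μ, (g : Matrix ι ι F) *ᵥ ev K u μ = ev K u μ := fun μ => hUfix _ (huW μ).1
      have huφ : φ u = 0 := LinearMap.mem_ker.mp hu.1.2
      have huL : u ∉ kline K v := by
        rintro ⟨m, hm⟩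
        have hm0 : m ≠ 0 := fun h => hu0 (by rw [← hm, h, map_zero])
        refine hθ0 (LinearMap.ext fun μ => ?_)
        have h1 := hgu (μ * m⁻¹)
        rw [show ev K u (μ * m⁻¹) = ev K v μ by
          rw [← hm, ev_apply, ev_apply v m, mulVec_mulVec, ← Subalgebra.coe_mul, mul_assoc,
            inv_mul_cancel₀ hm0, mul_one]; rfl, hgv, add_eq_left, smul_eq_zero] at h1
        exact h1.resolve_right fun h => hκ (ev_injective hK hv (h.trans (map_zero _).symm))
      obtain ⟨ψ, hψ, hψL, hψu⟩ := exists_klin hK hr.one_lt.le (stable_kline v) huL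
      obtain ⟨w, hw⟩ := exists_phi_eq hf G hψ
      have hwv : G.phi w v = 0 := by rw [hw]; exact hψL v (self_mem_kline v)
      have hwu : G.phi w u = 1 := by rw [hw, hψu]
      have hvw : φ w = 0 := by rw [hφ, phi_swap hf halt G v w, hwv, neg_zero]
      have huw : G.phi u w = -1 := by rw [phi_swap hf halt G u w, hwu]
      have huv : G.phi u v = 0 := by rw [phi_swap hf halt G u v, ← hφ, huφ, neg_zero]
      have ha0 : a ≠ 0 := fun h0 => hθ0 (LinearMap.ext fun k => by
        rw [← ha, h0, mul_zero, map_zero, LinearMap.zero_apply])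
      have hfu : ∀ z, G.phi u z = G.phi u ((g : Matrix ι ι F) *ᵥ z) := fun z => by
        refine phi_ext G fun k => ?_
        rw [G.spec, G.spec, hsa k k.2, hsa k k.2, ← ev_apply]
        conv_lhs => rw [← mem_isom.mp (hHI hg), hgu]
      have hfv : ∀ z, φ z = φ ((g : Matrix ι ι F) *ᵥ z) +
          G.theta (κ * φ ((g : Matrix ι ι F) *ᵥ z)) • a := by
        intro z
        refine phi_ext G fun k => ?_
        rw [hφ, G.spec, hsa k k.2, ← mem_isom.mp (hHI hg), ← ev_apply, hgv, mul_add, map_add,
          mul_smul_comm, map_smul, ha, hf.bilinear.add_right, hf.bilinear.smul_right, ev_apply,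
          ev_apply, ← hsa k k.2, ← hsa κ κ.2, G.spec, G.spec, smul_eq_mul, mul_comm (θ' k)]
      set b' := b * a⁻¹ with hb'
      have e1 : b' * a = b := by rw [hb', mul_assoc, inv_mul_cancel₀ ha0, mul_one]
      have hperp : ∀ k, G.phi v (ev K u k) = 0 := fun k => by
        rw [← hφ, phi_ev hK (G.klin v), huφ, mul_zero]
      obtain ⟨e, he, hex⟩ := inH_siegel hf hK hsa halt G hT (hperp b')
      obtain ⟨e', he', hex'⟩ := inH_siegel hf hK hsa halt G hT (hperp (-b'))
      obtain ⟨S, hS, hSx⟩ := inH_siegel hf hK hsa halt G hT (show G.phi v w = 0 from hvw)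
      have hex0 : ∀ x, (e : Matrix ι ι F) *ᵥ x = x + ev K v (b' * G.phi u x) +
          ev K u (b' * φ x) := by
        intro x
        rw [hex, LinearMap.add_apply, LinearMap.comp_apply, LinearMap.comp_apply,
          phi_ev_left hK hsa G, ev_apply _ (φ x), ← ev_mul, mul_comm (φ x), add_assoc]
      have hex0' : ∀ x, (e' : Matrix ι ι F) *ᵥ x = x + ev K v (-b' * G.phi u x) +
          ev K u (-b' * φ x) := by
        intro x
        rw [hex', LinearMap.add_apply, LinearMap.comp_apply, LinearMap.comp_apply,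
          phi_ev_left hK hsa G, ev_apply _ (φ x), ← ev_mul, mul_comm (φ x), add_assoc]
      obtain ⟨Y, hY, hYx⟩ : ∃ Y ∈ H, ∀ x, (Y : Matrix ι ι F) *ᵥ x =
          x + G.theta (b * G.phi u x) • ev K v κ + G.theta (κ * φ x) • ev K u b := by
        refine ⟨g * e * g⁻¹ * e', mul_mem (mul_mem (mul_mem hg he) (inv_mem hg)) he', fun x => ?_⟩
        obtain ⟨z, hz⟩ : ∃ z, (g : Matrix ι ι F) *ᵥ z = (e' : Matrix ι ι F) *ᵥ x :=
          ⟨_, mulVec_inv_mulVec g _⟩
        rw [Units.val_mul, Units.val_mul, Units.val_mul, ← mulVec_mulVec, ← mulVec_mulVec,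
          ← mulVec_mulVec, ← hz, inv_mulVec_mulVec, hex0, mulVec_add, mulVec_add, hgv, hgu,
          hfu z, hfv z, hz, hex0']
        simp only [map_add, phi_ev hK (G.klin _), phi_self halt G, huv, hkill, huφ, hφv, mul_zero,
          add_zero, ← ha, mul_add, add_mul, mul_smul_comm, smul_mul_assoc, map_smul, e1,
          mul_right_comm b' (G.phi u x) a, neg_mul, map_neg,
          show ∀ k, φ (ev K u k) = 0 from hperp, neg_zero, zero_mul, map_zero]
        module
      have h1 : InH H (ev K v ∘ₗ (-pairMap G.theta κ b) ∘ₗ φ) := by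
        refine ⟨Y * S * Y⁻¹ * S⁻¹, mul_mem (mul_mem (mul_mem hY hS) (inv_mem hY)) (inv_mem hS),
          fun x => ?_⟩
        obtain ⟨z, rfl⟩ : ∃ z, (S : Matrix ι ι F) *ᵥ ((Y : Matrix ι ι F) *ᵥ z) = x :=
          ⟨((Y⁻¹ : GL ι F) : Matrix ι ι F) *ᵥ (((S⁻¹ : GL ι F) : Matrix ι ι F) *ᵥ x),
            by rw [mulVec_inv_mulVec, mulVec_inv_mulVec]⟩
        rw [Units.val_mul, Units.val_mul, Units.val_mul, ← mulVec_mulVec, ← mulVec_mulVec,
          ← mulVec_mulVec, inv_mulVec_mulVec, inv_mulVec_mulVec, hYx, hSx, hSx, hYx]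
        simp only [LinearMap.comp_apply, LinearMap.add_apply, LinearMap.neg_apply, pairMap,
          LinearMap.smulRight_apply, LinearMap.mulLeft_apply, map_add, map_smul, map_neg,
          phi_ev hK (G.klin _), phi_self halt G, ← hφ, hφv, hkill, huv, huw, huφ, hvw, hwv, hwu,
          show ∀ k, φ (ev K u k) = 0 from hperp,
          show ∀ k, φ (ev K w k) = 0 from fun k => by rw [phi_ev hK (G.klin v), ← hφ, hvw, mul_zero],
          mul_zero, mul_one, mul_neg, smul_zero, add_zero, zero_add, map_zero, mul_add]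
        module
      exact neg_mem_iff.mp (show -pairMap G.theta κ b ∈ M from h1)
    · obtain ⟨b, hb0, hbκ⟩ : ∃ b, θ' b = 0 ∧ ∀ s : F, b ≠ s • κ := by
        by_contra hc'
        push Not at hc'
        have h1 : LinearMap.ker θ' ≤ Submodule.span F {κ} := fun k hk => by
          obtain ⟨s, hs⟩ := hc' k hk
          exact hs ▸ Submodule.smul_mem _ s (Submodule.mem_span_singleton_self κ)
        have h2' := Submodule.finrank_mono h1
        rw [finrank_span_singleton hκ] at h2'
        have h3 := LinearMap.finrank_range_add_finrank_ker θ'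
        have h4 := (LinearMap.range θ').finrank_le
        rw [Module.finrank_self] at h4
        rw [hK.finrank_eq] at h3
        omega
      refine ⟨b, hbκ, ?_⟩
      have := hΔ b
      rwa [hθa, hb0, zero_smul, add_zero] at this
  have hall := pairMap_mem (hK.finrank_eq.symm ▸ hr) G.theta hconj hκ hbκ hbM
  obtain ⟨c, hc⟩ : ∃ c, θ' c ≠ 0 := by
    by_contra hc
    push Not at hc
    exact hθ0 (LinearMap.ext hc)
  intro s
  set c' := (s / θ' c) • c with hc'
  have := sub_mem (hΔ c') (hall κ c')
  rw [hθa, hc', map_smul, smul_eq_mul, div_mul_cancel₀ _ hc] at this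
  convert this using 1
  show _ = R κ c' + R c' κ + _ - (R κ c' + R c' κ)
  abel

end Cfsg.Agent.ExtFieldMax.Sp
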